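import Cfsg.Agent.H72.F4I.Iso.Basic
import Cfsg.Agent.H380.AltSpec

/-!
# Isolated numbers of the alternating groups (copy of H360.Iso with the bound 13; helper72)
-/

set_option autoImplicit false

namespace Cfsg.Agent.H72.F4I.Iso

open Cfsg Equiv

section

variable {n : ℕ}

/-- a prime divisor of the least common multiple divides a member -/
theorem prime_dvd_lcm {r : ℕ} (hr : r.Prime) (s : Multiset ℕ) (h : r ∣ s.lcm) : ∃ c ∈ s, r ∣ c := by
  induction s using Multiset.induction_on with
  | empty =>
    rw [Multiset.lcm_zero] at h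
    exact absurd (Nat.dvd_one.1 h) hr.one_lt.ne'
  | cons a s ih =>
    rw [Multiset.lcm_cons] at h
    have h1 : r ∣ a * s.lcm := h.trans (Nat.lcm_dvd (dvd_mul_right _ _) (dvd_mul_left _ _))
    rcases (Nat.Prime.dvd_mul hr).1 h1 with h2 | h2
    · exact ⟨a, Multiset.mem_cons_self _ _, h2⟩
    · obtain ⟨c, hc, h3⟩ := ih h2
      exact ⟨c, Multiset.mem_cons_of_mem hc, h3⟩

/-- **alternating groups**: the isolated number is at most the degree -/
theorem alt_row {m : ℕ} (h : IsoN (alternatingGroup (Fin m)) n) : n ≤ m := by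
  obtain ⟨r, hr, hrn⟩ := h.exists_prime
  have hr2 := h.ne_two hrn
  have hmr : m < r + 4 := by
    by_contra hcon
    have hro : Odd r := hr.odd_of_ne_two hr2
    obtain ⟨g, hg⟩ := H380.AltSpec.exists_orderOf (n := m) {r, 2, 2} (by simp; omega) (by
      intro a ha
      simp only [Multiset.insert_eq_cons, Multiset.mem_cons, Multiset.mem_singleton] at ha
      rcases ha with rfl | rfl | rfl
      · exact hr.two_le
      · exact le_rfl
      · exact le_rfl) (by
      simp only [Multiset.insert_eq_cons, Multiset.sum_cons, Multiset.sum_singleton, Multiset.card_cons,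
        Multiset.card_singleton]
      obtain ⟨k, hk⟩ := hro
      exact ⟨k + 4, by omega⟩)
    have h1 : r ∣ orderOf g := by
      rw [hg]; exact Multiset.dvd_lcm (by simp)
    have h2 : 2 ∣ orderOf g := by
      rw [hg]; exact Multiset.dvd_lcm (by simp)
    exact h.not_two_dvd (h2.trans (h.iso g r hr hrn h1))
  obtain ⟨g, hg⟩ := h.elt
  have hg' : (g : Perm (Fin m)).cycleType.lcm = n := by
    rw [Equiv.Perm.lcm_cycleType, ← hg, Subgroup.orderOf_coe]
  obtain ⟨c, hc, hrc⟩ := prime_dvd_lcm hr _ (by rw [hg']; exact hrn)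
  have hsum : (g : Perm (Fin m)).cycleType.sum ≤ m := by
    have := (g : Perm (Fin m)).sum_cycleType_le
    rwa [Fintype.card_fin] at this
  obtain ⟨t, ht⟩ := Multiset.exists_cons_of_mem hc
  have hc2 : r ≤ c := Nat.le_of_dvd (by
    have := Equiv.Perm.two_le_of_mem_cycleType hc
    omega) hrc
  have ht0 : t = 0 := by
    by_contra hne
    obtain ⟨d, hd⟩ := Multiset.exists_mem_of_ne_zero hne
    obtain ⟨t', ht'⟩ := Multiset.exists_cons_of_mem hd
    have hdm : d ∈ (g : Perm (Fin m)).cycleType := by rw [ht]; exact Multiset.mem_cons_of_mem hd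
    have hd2 := Equiv.Perm.two_le_of_mem_cycleType hdm
    rw [ht, ht', Multiset.sum_cons, Multiset.sum_cons] at hsum
    have hdn : d ∣ n := by
      rw [← hg']; exact Multiset.dvd_lcm hdm
    have hd4 : d = 2 ∨ d = 3 := by omega
    rcases hd4 with rfl | rfl
    · exact h.not_two_dvd hdn
    · exact h.not_three_dvd hdn
  rw [ht, ht0] at hg' hsum
  simp only [Multiset.lcm_cons, Multiset.lcm_zero, Multiset.sum_cons, Multiset.sum_zero] at hg' hsum
  have : Nat.lcm c 1 = c := Nat.lcm_one_right c
  rw [← hg']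
  change Nat.lcm c 1 ≤ m
  omega
end

end Cfsg.Agent.H72.F4I.Iso
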