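import Cfsg.Agent.H371.Basic
import Cfsg.Agent.H564.Near

/-!
# Groups with an isolated number (copy of H360.Iso with the bound 13; helper72)

`IsoN T n`: `n` is an element order of `T`, prime to `6`, `13 ≤ n`, and every element order which is not prime to `n`
divides `n`.  This is the situation of a composition factor `T` of a group with the spectrum of `PSU(3, q)`,
`PSL(3, q)`, ... (`n` the order of the isolated torus).
-/

set_option autoImplicit false

namespace Cfsg.Agent.H72.F4I.Iso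

open Cfsg.Agent.H371

/-- `n` is an isolated number of `T`. -/
structure IsoN (T : Type*) [Group T] (n : ℕ) : Prop where
  elt : ∃ x : T, orderOf x = n
  iso : ∀ (x : T) (r : ℕ), r.Prime → r ∣ n → r ∣ orderOf x → orderOf x ∣ n
  not_two_dvd : ¬ 2 ∣ n
  not_three_dvd : ¬ 3 ∣ n
  big : 13 ≤ n

section

variable {T : Type*} [Group T] {n : ℕ}

theorem IsoN.congr {T' : Type*} [Group T'] (h : IsoN T n) (e : T ≃* T') : IsoN T' n := by
  have key : ∀ x : T', orderOf (e.symm x) = orderOf x := fun x =>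
    orderOf_injective e.symm.toMonoidHom e.symm.injective x
  obtain ⟨x, hx⟩ := h.elt
  refine ⟨⟨e x, ?_⟩, ?_, h.not_two_dvd, h.not_three_dvd, h.big⟩
  · rw [← key, MulEquiv.symm_apply_apply, hx]
  · intro x r hr hrn hd
    rw [← key] at hd ⊢
    exact h.iso _ r hr hrn hd

theorem IsoN.ne_two (h : IsoN T n) {r : ℕ} (hd : r ∣ n) : r ≠ 2 := by
  rintro rfl
  exact h.not_two_dvd hd

theorem IsoN.ne_three (h : IsoN T n) {r : ℕ} (hd : r ∣ n) : r ≠ 3 := by
  rintro rfl
  exact h.not_three_dvd hd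

theorem IsoN.odd (h : IsoN T n) : Odd n := by
  rw [← Nat.not_even_iff_odd, even_iff_two_dvd]
  exact h.not_two_dvd

theorem IsoN.exists_prime (h : IsoN T n) : ∃ r : ℕ, r.Prime ∧ r ∣ n :=
  Nat.exists_prime_and_dvd (by have := h.big; omega)

/-- an element order divisible by a prime divisor of `n` divides `n` -/
theorem IsoN.dvd_of_elt (h : IsoN T n) {N r : ℕ} (he : ∃ x : T, orderOf x = N) (hr : r.Prime) (hrn : r ∣ n)
    (hrN : r ∣ N) : N ∣ n := by
  obtain ⟨x, rfl⟩ := he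
  exact h.iso x r hr hrn hrN

/-- the same for an element whose order is a multiple of `N` -/
theorem IsoN.dvd_of_elt' (h : IsoN T n) {N r : ℕ} (he : ∃ x : T, N ∣ orderOf x) (hr : r.Prime) (hrn : r ∣ n)
    (hrN : r ∣ N) : N ∣ n := by
  obtain ⟨x, hx⟩ := he
  exact hx.trans (h.iso x r hr hrn (hrN.trans hx))

theorem IsoN.not_adj' (h : IsoN T n) {r s : ℕ} (hr : r.Prime) (hrn : r ∣ n) (hsn : ¬ s ∣ n) :
    ¬ PAdj T r s := by
  rintro ⟨-, -, -, g, hg⟩
  exact hsn ((dvd_mul_left s r).trans (h.dvd_of_elt ⟨g, hg⟩ hr hrn (dvd_mul_right r s)))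

theorem IsoN.dvd_of_padj (h : IsoN T n) {r s : ℕ} (hrn : r ∣ n) (ha : PAdj T r s) : s ∣ n := by
  by_contra hs
  exact h.not_adj' ha.1 hrn hs ha

theorem IsoN.dvd_of_pconn (h : IsoN T n) {r s : ℕ} (hrn : r ∣ n) (hc : PConn T r s) : s ∣ n := by
  induction hc with
  | refl => exact hrn
  | tail _ h2 ih => exact h.dvd_of_padj ih h2

theorem IsoN.not_pconn (h : IsoN T n) {r : ℕ} (hrn : r ∣ n) : ¬ PConn T r 2 := fun hc =>
  h.not_two_dvd (h.dvd_of_pconn hrn hc)

theorem IsoN.dvd_of_adj [Finite T] (h : IsoN T n) {r s : ℕ} (hrn : r ∣ n) (ha : H94.PG.Adj T r s) : s ∣ n := by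
  obtain ⟨hr, hs, hne, x, y, hx, hy, hc⟩ := ha
  exact h.dvd_of_padj hrn (adj_of_commute hc hr hs hne (by rw [hx]) (by rw [hy]))

theorem IsoN.dvd_of_conn [Finite T] (h : IsoN T n) {r s : ℕ} (hrn : r ∣ n) (hc : H94.PG.Conn T r s) : s ∣ n := by
  unfold H94.PG.Conn at hc
  induction hc with
  | refl => exact hrn
  | tail _ h2 ih => exact h.dvd_of_adj ih h2

theorem IsoN.not_conn [Finite T] (h : IsoN T n) {r : ℕ} (hrn : r ∣ n) : ¬ H94.PG.Conn T r 2 := fun hc =>
  h.not_two_dvd (h.dvd_of_conn hrn hc)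

theorem IsoN.not_adj [Finite T] (h : IsoN T n) {r : ℕ} (hrn : r ∣ n) : ¬ H94.PG.Adj T r 2 := fun hc =>
  h.not_two_dvd (h.dvd_of_adj hrn hc)

theorem IsoN.not_near [Finite T] (h : IsoN T n) {r : ℕ} (hrn : r ∣ n) : ¬ H564.NearTwo.Near T r := fun hc =>
  h.not_conn hrn hc.conn

theorem IsoN.dvd_card [Finite T] (h : IsoN T n) : n ∣ Nat.card T := by
  obtain ⟨x, rfl⟩ := h.elt
  exact orderOf_dvd_natCard x

theorem IsoN.prime_dvd_card [Finite T] (h : IsoN T n) {r : ℕ} (hrn : r ∣ n) : r ∣ Nat.card T :=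
  hrn.trans h.dvd_card

/-- an element of order exactly `N` from one of order a multiple of `N` -/
theorem exists_order [Finite T] {N : ℕ} (he : ∃ x : T, N ∣ orderOf x) : ∃ x : T, orderOf x = N := by
  obtain ⟨x, hx⟩ := he
  obtain ⟨y, -, hy⟩ := exists_orderOf_of_dvd (isOfFinOrder_of_finite x) hx
  exact ⟨y, hy⟩

end

/-- if all prime divisors of `n` are `≡ 1 mod 3` then all divisors are -/
theorem mod_of_dvd {n : ℕ} (hn0 : n ≠ 0) (h : ∀ r : ℕ, r.Prime → r ∣ n → r % 3 = 1) {d : ℕ} (hd : d ∣ n) :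
    d % 3 = 1 := by
  have hd0 : d ≠ 0 := by
    rintro rfl
    exact hn0 (Nat.eq_zero_of_zero_dvd hd)
  have key : ∀ l : List ℕ, (∀ r ∈ l, r % 3 = 1) → l.prod % 3 = 1 := by
    intro l
    induction l with
    | nil => intro _; rfl
    | cons a l ih =>
      intro hl
      rw [List.prod_cons, Nat.mul_mod, hl a (by simp), ih fun r hr => hl r (by simp [hr])]
  rw [← Nat.prod_primeFactorsList hd0]
  exact key _ fun r hr => h r (Nat.prime_of_mem_primeFactorsList hr)
    ((Nat.dvd_of_mem_primeFactorsList hr).trans hd)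

/-- removing factors prime to `n` -/
theorem dvd_of_primes {n A B : ℕ} (h : n ∣ A * B) (hA : ∀ r : ℕ, r.Prime → r ∣ n → ¬ r ∣ A) : n ∣ B := by
  refine Nat.Coprime.dvd_of_dvd_mul_left ?_ h
  exact Nat.Coprime.symm (Nat.coprime_of_dvd fun k hk hkA hkn => hA k hk hkn hkA)

/-- removing a product of factors prime to `n` -/
theorem not_dvd_prod {ι : Type*} {n : ℕ} {s : Finset ι} {f : ι → ℕ} (h : ∀ i ∈ s, ¬ n ∣ f i) (hn : n.Prime) :
    ¬ n ∣ ∏ i ∈ s, f i := by
  intro hd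
  obtain ⟨i, hi, hi'⟩ := (Prime.dvd_finsetProd_iff hn.prime _).1 hd
  exact h i hi hi'

/-- the odd part -/
theorem dvd_of_odd_two_mul {n B : ℕ} (h : n ∣ 2 * B) (hn : Odd n) : n ∣ B :=
  (Nat.coprime_two_right.2 hn).dvd_of_dvd_mul_left h

end Cfsg.Agent.H72.F4I.Iso
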