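import Cfsg.Agent.H72.F4I.Iso.Basic
import Cfsg.Agent.H360.Iso.LinElt
import Cfsg.Agent.H964.PrimeGraph

/-!
# Isolated numbers of `PSL_n(q)`, `n ≥ 3` (copy of H360.Iso with the bound 13; helper72)
-/

set_option autoImplicit false

namespace Cfsg.Agent.H72.F4I.Iso

open Matrix Cfsg.Agent.H371 Cfsg.Agent.H371.Psl
open Cfsg.Agent.H360.Iso (exists_top exists_sub exists_two)

section

variable {F : Type*} [Field F] [Finite F]

omit [Field F] [Finite F] in
theorem geom_mod {q : ℕ} (hq : 1 ≤ q) (n : ℕ) : ∃ S t : ℕ, q ^ n = (q - 1) * S + 1 ∧ S = n + (q - 1) * t := by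
  induction n with
  | zero => exact ⟨0, 0, by simp, by simp⟩
  | succ n ih =>
    obtain ⟨S, t, h1, h2⟩ := ih
    obtain ⟨e, rfl⟩ : ∃ e, q = e + 1 := ⟨q - 1, by omega⟩
    rw [Nat.add_sub_cancel] at h1 h2 ⊢
    refine ⟨S + (e + 1) ^ n, t + S, ?_, ?_⟩
    · rw [pow_succ, h1]
      ring
    · rw [h1]
      conv_lhs => rw [h2]
      rw [h2]
      ring

omit [Field F] [Finite F] in
theorem gcd_dvd_geom {q n S : ℕ} (hq : 1 < q) (hS : q ^ n - 1 = (q - 1) * S) : Nat.gcd n (q - 1) ∣ S := by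
  obtain ⟨S', t, h1, h2⟩ := geom_mod hq.le n
  have h3 : (q - 1) * S = (q - 1) * S' := by
    rw [← hS, h1, Nat.add_sub_cancel]
  have h4 : S = S' := Nat.eq_of_mul_eq_mul_left (by omega) h3
  rw [h4, h2]
  exact dvd_add (Nat.gcd_dvd_left _ _) ((Nat.gcd_dvd_right _ _).mul_right _)

theorem not_small_three {n k : ℕ} (h : IsoN (ProjectiveSpecialLinearGroup (Fin n) F) k) :
    ¬ (n = 3 ∧ (Nat.card F = 2 ∨ Nat.card F = 4)) := by
  rintro ⟨rfl, hq⟩
  obtain ⟨p, hp⟩ := CharP.exists F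
  have hpf : Fact p.Prime := ⟨CharP.char_is_prime F p⟩
  classical
  letI := Fintype.ofFinite F
  have hb := h.big
  have hp2 : p = 2 := by
    obtain ⟨t, -, ht⟩ := FiniteField.card F p
    rw [← Nat.card_eq_fintype_card] at ht
    have h1 : p ∣ 2 ^ 2 := by
      have h2 : p ∣ Nat.card F := by
        rw [ht]
        exact dvd_pow_self p t.ne_zero
      rcases hq with h3 | h3
      · rw [h3] at h2
        exact h2.trans (by norm_num)
      · rw [h3] at h2
        exact h2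
    exact (Nat.prime_dvd_prime_iff_eq hpf.out Nat.prime_two).1 (hpf.out.dvd_of_dvd_pow h1)
  have h1 := (H964.PrimeGraph.mem_spec3 (F := F) p k).1 h.elt
  rw [← Nat.card_eq_fintype_card, hp2] at h1
  rcases hq with h3 | h3 <;> rw [h3] at h1 <;> norm_num at h1 <;>
    rcases h1 with h1 | h1 | h1 | h1 | h1 <;> first
      | (have := Nat.le_of_dvd (by norm_num) h1; omega)
      | omega

/-- **`PSL_n(q)`, `n ≥ 3`** -/
theorem psl_row {n k : ℕ} (hn : 3 ≤ n) (h : IsoN (ProjectiveSpecialLinearGroup (Fin n) F) k) :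
    (k * Nat.gcd n (Nat.card F - 1) * (Nat.card F - 1) = Nat.card F ^ n - 1 ∧
      ∃ x : ProjectiveSpecialLinearGroup (Fin n) F,
        orderOf x * Nat.gcd n (Nat.card F - 1) = Nat.card F ^ (n - 1) - 1) ∨
    (Nat.card F - 1 ∣ n ∧ k * (Nat.card F - 1) = Nat.card F ^ (n - 1) - 1 ∧
      ∃ x : ProjectiveSpecialLinearGroup (Fin n) F, orderOf x * (Nat.card F - 1) ^ 2 = Nat.card F ^ n - 1) := by
  have hexc := not_small_three h
  have hq : 1 < Nat.card F := Finite.one_lt_card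
  have hfin : Finite (ProjectiveSpecialLinearGroup (Fin n) F) := inferInstance
  set q := Nat.card F with hqd
  set g := Nat.gcd n (q - 1) with hg
  have hgq : g ∣ q - 1 := Nat.gcd_dvd_right _ _
  have hg0 : 0 < g := Nat.gcd_pos_of_pos_left _ (by omega)
  have hone : ∀ i, 1 ≤ q ^ i := fun i => Nat.one_le_pow _ _ (by omega)
  -- primes dividing `k`
  have c0 : ∀ r : ℕ, r.Prime → r ∣ k → ¬ r ∣ q := by
    intro r hr hrk hd
    rcases conn_two_small (F := F) hn hr (h.ne_two hrk) (Or.inl hd) with h1 | h1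
    · exact h.not_pconn hrk h1
    · exact hexc h1
  have c1 : ∀ r : ℕ, r.Prime → r ∣ k → ¬ r ∣ q - 1 := by
    intro r hr hrk hd
    rcases conn_two_small (F := F) hn hr (h.ne_two hrk) (Or.inr hd) with h1 | h1
    · exact h.not_pconn hrk h1
    · exact hexc h1
  have c2 : ∀ r j : ℕ, r.Prime → r ∣ k → 1 ≤ j → j + 2 ≤ n → ¬ r ∣ q ^ j - 1 := by
    intro r j hr hrk hj hjn hd
    exact h.not_pconn hrk (adj_two_of_le hr (h.ne_two hrk) hj hjn hd (c1 r hr hrk)).symm.conn
  have hcase : ∀ r : ℕ, r.Prime → r ∣ k → r ∣ q ^ (n - 1) - 1 ∨ r ∣ q ^ n - 1 := by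
    intro r hr hrk
    rcases cases_odd hn hr (h.ne_two hrk) (h.prime_dvd_card hrk) with h1 | h1 | h1 | h1
    · exact absurd h1 (h.not_pconn hrk)
    · exact absurd h1 hexc
    · exact Or.inl h1.2
    · exact Or.inr h1.2
  have hnb : ∀ r : ℕ, r.Prime → r ∣ k → r ∣ q ^ (n - 1) - 1 → ¬ r ∣ q ^ n - 1 := by
    intro r hr hrk h1 h2
    have h3 : r ∣ q ^ Nat.gcd (n - 1) n - 1 := by
      rw [← Nat.pow_sub_one_gcd_pow_sub_one]
      exact Nat.dvd_gcd h1 h2
    have h4 : Nat.gcd (n - 1) n = 1 := by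
      have : Nat.gcd (n - 1) (n - 1 + 1) = 1 := by simp
      rwa [Nat.sub_add_cancel (by omega)] at this
    rw [h4, pow_one] at h3
    exact c1 r hr hrk h3
  -- `k` divides the two factors
  have hred : k ∣ (q ^ (n - 1) - 1) * (q ^ n - 1) := by
    classical
    letI := Fintype.ofFinite F
    have h1 := S0243.result (F := F) (q := q) (Nat.card_eq_fintype_card).symm n (by omega)
    have h2 : k ∣ ∏ i : Fin n, (q ^ n - q ^ (i : ℕ)) := by
      rw [← h1]
      exact (h.dvd_card.mul_left _).mul_left _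
    rw [Fin.prod_univ_eq_prod_range (fun i => q ^ n - q ^ i) n] at h2
    obtain ⟨t, rfl⟩ : ∃ t, n = t + 2 := ⟨n - 2, by omega⟩
    rw [Finset.prod_range_succ', Finset.prod_range_succ', mul_assoc] at h2
    have h3 := dvd_of_primes h2 fun r hr hrk => not_dvd_prod (fun i hi => by
      rw [Finset.mem_range] at hi
      have e : q ^ (t + 2) - q ^ (i + 1 + 1) = q ^ (i + 2) * (q ^ (t - i) - 1) := by
        rw [Nat.mul_sub, mul_one, ← pow_add]
        congr 2
        omega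
      rw [e]
      intro hd
      rcases (Nat.Prime.dvd_mul hr).1 hd with h4 | h4
      · exact c0 r hr hrk (hr.dvd_of_dvd_pow h4)
      · exact c2 r (t - i) hr hrk (by omega) (by omega) h4) hr
    have e : q ^ (t + 2) - q ^ (0 + 1) = q * (q ^ (t + 1) - 1) := by
      rw [Nat.mul_sub, mul_one, zero_add, pow_one, pow_succ, mul_comm]
    rw [e, mul_assoc] at h3
    have h4 := dvd_of_primes h3 c0
    rw [pow_zero] at h4
    exact h4
  have hgk : Nat.Coprime k g := Nat.coprime_of_dvd fun r hr hrk hrg => c1 r hr hrk (hrg.trans hgq)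
  have hq1k : Nat.Coprime k (q - 1) := Nat.coprime_of_dvd fun r hr hrk hrg => c1 r hr hrk hrg
  by_cases htop : ∃ b : ℕ, b.Prime ∧ b ∣ k ∧ b ∣ q ^ n - 1
  · left
    obtain ⟨b, hb, hbk, hbn⟩ := htop
    have hall : ∀ r : ℕ, r.Prime → r ∣ k → ¬ r ∣ q ^ (n - 1) - 1 := by
      intro r hr hrk hd
      rcases mixed hn hr hb (h.ne_two hbk) (c1 r hr hrk) (c1 b hb hbk) hd hbn with h1 | h1 | h1
      · exact h.not_pconn hrk h1
      · exact h.not_pconn hbk h1
      · exact hexc h1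
    have hk1 : k ∣ q ^ n - 1 := dvd_of_primes hred hall
    obtain ⟨S, hS⟩ : ∃ S, q ^ n - 1 = (q - 1) * S := Nat.sub_one_dvd_pow_sub_one q n
    have hkS : k ∣ S := hq1k.dvd_of_dvd_mul_left (by rwa [← hS])
    obtain ⟨x, hx⟩ := exists_top (F := F) (n := n) (by omega)
    rw [← hqd, ← hg, hS, mul_comm (q - 1) S] at hx
    have hx1 : S ∣ orderOf x * g := Nat.dvd_of_mul_dvd_mul_right (by omega) hx
    have hxk : orderOf x ∣ k := by
      refine h.iso x b hb hbk ?_
      have h2 : b ∣ orderOf x * g := (hbk.trans hkS).trans hx1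
      rcases (Nat.Prime.dvd_mul hb).1 h2 with h3 | h3
      · exact h3
      · exact absurd (h3.trans hgq) (c1 b hb hbk)
    have hkx : k ∣ orderOf x := hgk.dvd_of_dvd_mul_right (hkS.trans hx1)
    have hxe : orderOf x = k := Nat.dvd_antisymm hxk hkx
    rw [hxe] at hx1
    -- `g ∣ S`
    have hgS : g ∣ S := gcd_dvd_geom hq hS
    have hkgS : k * g ∣ S := hgk.mul_dvd_of_dvd_of_dvd hkS hgS
    have hSe : S = k * g := Nat.dvd_antisymm hx1 hkgS
    refine ⟨by rw [hS, hSe]; ring, ?_⟩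
    obtain ⟨m, rfl⟩ : ∃ m, n = m + 1 := ⟨n - 1, by omega⟩
    obtain ⟨y, hy⟩ := exists_sub (F := F) (m := m) (by omega)
    obtain ⟨M, hM⟩ : g ∣ q ^ m - 1 := hgq.trans (Nat.sub_one_dvd_pow_sub_one q m)
    rw [← hqd, ← hg, hM, mul_comm g M] at hy
    obtain ⟨z, hz⟩ := exists_order ⟨y, Nat.dvd_of_mul_dvd_mul_right hg0 hy⟩
    exact ⟨z, by rw [hz, Nat.add_sub_cancel, hM, mul_comm]⟩
  · right
    push Not at htop
    have hk1 : k ∣ q ^ (n - 1) - 1 := by
      rw [mul_comm] at hred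
      exact dvd_of_primes hred htop
    obtain ⟨S, hS⟩ : ∃ S, q ^ (n - 1) - 1 = (q - 1) * S := Nat.sub_one_dvd_pow_sub_one q (n - 1)
    have hkS : k ∣ S := hq1k.dvd_of_dvd_mul_left (by rwa [← hS])
    have hS0 : 0 < S := by
      rcases Nat.eq_zero_or_pos S with h0 | h0
      · exfalso
        rw [h0, mul_zero] at hS
        have h2 : q ^ 1 ≤ q ^ (n - 1) := Nat.pow_le_pow_right (by omega) (by omega)
        rw [pow_one] at h2
        omega
      · exact h0
    obtain ⟨b, hb, hbk⟩ := h.exists_prime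
    obtain ⟨m, rfl⟩ : ∃ m, n = m + 1 := ⟨n - 1, by omega⟩
    obtain ⟨y, hy⟩ := exists_sub (F := F) (m := m) (by omega)
    rw [Nat.add_sub_cancel] at hS hk1
    rw [← hqd, ← hg, hS] at hy
    have hyk : orderOf y ∣ k := by
      refine h.iso y b hb hbk ?_
      have h2 : b ∣ orderOf y * g := ((hbk.trans hkS).mul_left (q - 1)).trans hy
      rcases (Nat.Prime.dvd_mul hb).1 h2 with h3 | h3
      · exact h3
      · exact absurd (h3.trans hgq) (c1 b hb hbk)
    have h3 : (q - 1) * S ∣ S * g := hy.trans (Nat.mul_dvd_mul_right (hyk.trans hkS) g)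
    rw [mul_comm (q - 1) S] at h3
    have h4 : q - 1 ∣ g := Nat.dvd_of_mul_dvd_mul_left hS0 h3
    have h5 : g = q - 1 := Nat.dvd_antisymm hgq h4
    have h6 : S ∣ k := by
      rw [h5, mul_comm (q - 1) S] at hy
      exact (Nat.dvd_of_mul_dvd_mul_right (by omega) hy).trans hyk
    have h7 : k = S := Nat.dvd_antisymm hkS h6
    have hqn : q - 1 ∣ m + 1 := by rw [← h5]; exact Nat.gcd_dvd_left _ _
    refine ⟨hqn, by rw [h7, Nat.add_sub_cancel, hS, mul_comm], ?_⟩
    obtain ⟨x, hx⟩ := exists_top (F := F) (n := m + 1) (by omega)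
    rw [← hqd, ← hg, h5] at hx
    have h8 : (q - 1) ^ 2 ∣ q ^ (m + 1) - 1 := by
      obtain ⟨S', hS'⟩ : ∃ S, q ^ (m + 1) - 1 = (q - 1) * S := Nat.sub_one_dvd_pow_sub_one q (m + 1)
      have h9 := gcd_dvd_geom hq hS'
      rw [← hg, h5] at h9
      rw [hS', pow_two]
      exact Nat.mul_dvd_mul_left _ h9
    obtain ⟨M, hM⟩ := h8
    rw [hM, mul_assoc, ← pow_two, mul_comm] at hx
    obtain ⟨z, hz⟩ := exists_order ⟨x, Nat.dvd_of_mul_dvd_mul_right (pow_pos (by omega) 2) hx⟩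
    exact ⟨z, by rw [hz, hM, mul_comm]⟩

end

end Cfsg.Agent.H72.F4I.Iso
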